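import Groth.Prelude.Def_CGrpSh
import Groth.Prelude.Def_AlgGrp
import Mathlib.AlgebraicGeometry.Sites.Fpqc
import Mathlib.CategoryTheory.Sites.EpiMono
import Mathlib.AlgebraicGeometry.PullbackCarrier

/-!
# Epimorphisms and exact sequences of sheaves of points
-/

set_option autoImplicit false
universe u

open CategoryTheory CategoryTheory.Limits AlgebraicGeometry Opposite MonObj MonoidalCategory CartesianMonoidalCategory

noncomputable section

namespace Groth.Agent.GrpShEx23

variable {S : Scheme.{u}} (K : Precoverage Scheme.{u}) [(QuotSh.J K S).Subcanonical]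
variable {G H L : Over S} [GrpObj G] [IsCommMonObj G] [GrpObj H] [IsCommMonObj H] [GrpObj L] [IsCommMonObj L]

/-- A section over `T` as an element. -/
def el {G : Over S} [GrpObj G] [IsCommMonObj G] {T : Over S} (x : T ⟶ G) : (CGrpSh.pts K G).obj.obj (op T) :=
  ULift.up (Additive.ofMul x)

theorem locallySurjective_iff (p : G ⟶ H) [IsMonHom p] :
    Presheaf.IsLocallySurjective (QuotSh.J K S) (CGrpSh.ptsMap K p).hom ↔
      ∀ (T : Over S) (x : T ⟶ H), ∃ R ∈ K.toGrothendieck T.left,
        ∀ ⦃V : Scheme.{u}⦄ (j : V ⟶ T.left), R j →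
          ∃ y : Over.mk (j ≫ T.hom) ⟶ G, y ≫ p = Over.homMk j ≫ x := by
  constructor
  · intro h T x
    refine ⟨_, (GrothendieckTopology.mem_over_iff _ _).1 (h.imageSieve_mem (U := T) (el K x)), fun V j hj => ?_⟩
    rw [Sieve.overEquiv_iff] at hj
    obtain ⟨y, hy⟩ := hj
    exact ⟨y.down.toMul, congrArg (fun z => z.down.toMul) hy⟩
  · intro h
    refine ⟨fun {T} s => ?_⟩
    obtain ⟨R, hR, hlift⟩ := h T s.down.toMul
    rw [GrothendieckTopology.mem_over_iff]
    refine GrothendieckTopology.superset_covering _ (fun V j hj => ?_) hR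
    rw [Sieve.overEquiv_iff]
    obtain ⟨y, hy⟩ := hlift j hj
    exact ⟨el K y, ULift.ext _ _ hy⟩

/-- Locally lifted points: the homomorphism is an epimorphism of sheaves. -/
theorem epi_ptsMap_of_lifts (p : G ⟶ H) [IsMonHom p]
    (h : ∀ (T : Over S) (x : T ⟶ H), ∃ R ∈ K.toGrothendieck T.left,
      ∀ ⦃V : Scheme.{u}⦄ (j : V ⟶ T.left), R j →
        ∃ y : Over.mk (j ≫ T.hom) ⟶ G, y ≫ p = Over.homMk j ≫ x) : Epi (CGrpSh.ptsMap K p) := by
  haveI := (locallySurjective_iff K p).2 h
  haveI : Sheaf.IsLocallySurjective (CGrpSh.ptsMap K p) := this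
  exact (Sheaf.isLocallySurjective_iff_epi' _ _).1 inferInstance

/-- An epimorphism of sheaves of points lifts points locally. -/
theorem lifts_of_epi (p : G ⟶ H) [IsMonHom p] [Epi (CGrpSh.ptsMap K p)] (T : Over S) (x : T ⟶ H) :
    ∃ R ∈ K.toGrothendieck T.left, ∀ ⦃V : Scheme.{u}⦄ (j : V ⟶ T.left), R j →
      ∃ y : Over.mk (j ≫ T.hom) ⟶ G, y ≫ p = Over.homMk j ≫ x :=
  (locallySurjective_iff K p).1 ((Sheaf.isLocallySurjective_iff_epi' _ (CGrpSh.ptsMap K p)).2 inferInstance) T x

theorem mono_ptsMap (f : G ⟶ H) [IsMonHom f] [Mono f] : Mono (CGrpSh.ptsMap K f) := by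
  refine (sheafToPresheaf _ _).mono_of_mono_map ?_
  haveI : ∀ T, Mono (((sheafToPresheaf _ _).map (CGrpSh.ptsMap K f)).app T) := fun T => by
    rw [AddCommGrpCat.mono_iff_injective]
    intro a b hab
    exact ULift.ext _ _ (congrArg Additive.ofMul
      ((cancel_mono f).1 (congrArg (fun z => z.down.toMul) hab) : a.down.toMul = b.down.toMul))
  exact NatTrans.mono_of_mono_app _

/-- The kernel of a homomorphism gives an exact sequence of sheaves of points. -/
theorem exact_seq (f : G ⟶ H) (p : H ⟶ L) [IsMonHom f] [IsMonHom p] (w : f ≫ p = 1) [Mono f]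
    (h : ∀ (T : Over S) (x : T ⟶ H), x ≫ p = 1 → ∃ y : T ⟶ G, y ≫ f = x) :
    (CGrpSh.seq K f p w).Exact := by
  choose y hy using h
  haveI := mono_ptsMap K f
  haveI : Mono (CGrpSh.seq K f p w).f := mono_ptsMap K f
  refine ShortComplex.exact_of_f_is_kernel _ (KernelFork.IsLimit.ofι' _ _ fun {W} k hk => ?_)
  have hz : ∀ (T : (Over S)ᵒᵖ) (a : W.obj.obj T), ((k.hom.app T a).down.toMul) ≫ p = 1 := fun T a =>
    congrArg (fun g : W ⟶ CGrpSh.pts K L => ((g.hom.app T) a).down.toMul) hk
  let c : ∀ T : (Over S)ᵒᵖ, W.obj.obj T ⟶ (CGrpSh.pts K G).obj.obj T := fun T => AddCommGrpCat.ofHom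
    { toFun := fun a => el K (y (unop T) _ (hz T a))
      map_zero' := ULift.ext _ _ (congrArg Additive.ofMul ((cancel_mono f).1 (by
        rw [hy, MonObj.one_comp]
        exact congrArg (fun z => z.down.toMul) (map_zero (k.hom.app T).hom))))
      map_add' := fun a b => ULift.ext _ _ (congrArg Additive.ofMul ((cancel_mono f).1 (by
        rw [hy]
        refine Eq.trans ?_ (MonObj.mul_comp _ _ f).symm
        change _ = (y (unop T) _ (hz T a) ≫ f) * (y (unop T) _ (hz T b) ≫ f)
        rw [hy, hy]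
        exact congrArg (fun z => z.down.toMul) (map_add (k.hom.app T).hom a b)))) }
  refine ⟨⟨{ app := c
             naturality := fun T T' g => AddCommGrpCat.ext fun a =>
               ULift.ext _ _ (congrArg Additive.ofMul ((cancel_mono f).1 ?_)) }⟩, ?_⟩
  · show y (unop T') _ (hz T' _) ≫ f = (g.unop ≫ y (unop T) _ (hz T a)) ≫ f
    rw [hy, Category.assoc, hy]
    exact congrArg (fun z => z.down.toMul) (ConcreteCategory.congr_hom (k.hom.naturality g) a)
  · exact Sheaf.hom_ext (NatTrans.ext (funext fun T => AddCommGrpCat.ext fun a =>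
      ULift.ext _ _ (congrArg Additive.ofMul (hy (unop T) _ (hz T a)))))

section fpqc

/-- Covering sieves of the fpqc topology are jointly surjective. -/
theorem exists_mem_range {T : Scheme.{u}} {R : Sieve T} (hR : R ∈ Scheme.fpqcPrecoverage.toGrothendieck T) (t : T) :
    ∃ (V : Scheme.{u}) (j : V ⟶ T), R j ∧ t ∈ Set.range j := by
  rw [Precoverage.mem_toGrothendieck_iff] at hR
  induction hR with
  | of X P hP =>
    obtain ⟨V, j, hj, ht⟩ := (Presieve.mem_comap_jointlySurjectivePrecoverage_iff Scheme.forget).1 hP.2.1 t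
    exact ⟨V, j, Sieve.le_generate P _ _ hj, ht⟩
  | top X => exact ⟨X, 𝟙 X, trivial, t, rfl⟩
  | pullback X P _ Y g ih =>
    obtain ⟨V, j, hj, v, hv⟩ := ih (g t)
    obtain ⟨w, hw, -⟩ := Scheme.Pullback.exists_preimage_pullback (f := g) (g := j) t v hv.symm
    refine ⟨pullback g j, pullback.fst g j, ?_, w, hw⟩
    show P (pullback.fst g j ≫ g)
    rw [pullback.condition]
    exact P.downward_closed hj _
  | transitive X P P' _ _ ih1 ih2 =>
    obtain ⟨V, j, hj, v, hv⟩ := ih1 t
    obtain ⟨W, i, hi, w, hw⟩ := ih2 hj v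
    exact ⟨W, i ≫ j, hi, w, by rw [← hv, ← hw]; rfl⟩

end fpqc

end Groth.Agent.GrpShEx23
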